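import Cfsg.Agent.Apw.CaseA2
import Cfsg.Agent.Recog.X32A9

/-! The 2-local subgroup `2³.L₃(2)` is impossible. -/

set_option autoImplicit false
set_option linter.unusedSectionVars false

namespace Cfsg.Lib.Apw

open Subgroup Cfsg.Lib.Solv Cfsg.Lib.Known Cfsg.Lib.Known.G168 Cfsg.Lib.Local CA

theorem CA.t_card {K : Subgroup L7} (hx : x0 ∈ K) (hs : s0 ∈ K) (ha : a0 ∈ K) (hy : y0 ∉ K) :
    Nat.card K = 24 := by
  refine (GTab.card_eq_cnt_of_mask (m := tab.clos [4, 68, 130]) fun l => ⟨fun h => ?_,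
    GTab.clos_sound K _ (by
      simp only [List.mem_cons, List.not_mem_nil, or_false, forall_eq_or_imp, forall_eq]
      exact ⟨⟨by decide, hx⟩, ⟨by decide, hs⟩, by decide, ha⟩) l⟩).trans (by decide +kernel)
  exact ((by decide +kernel : ∀ l : L7, GTab.bit (tab.clos [4, 68, 130]) l.1 = true ∨
    GTab.bit (tab.clos [4, 68, 130, l.1]) y0.1 = true) l).resolve_right fun e =>
      hy (GTab.clos_sound K _ (by
      simp only [List.mem_cons, List.not_mem_nil, or_false, forall_eq_or_imp, forall_eq]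
      exact ⟨⟨by decide, hx⟩, ⟨by decide, hs⟩, ⟨by decide, ha⟩, l.2, by rwa [GTab.el_val]⟩) _ e)

variable {G : Type*} [Group G]

namespace EA

variable [Finite G] {x σ y v : G} {V H Q R : Subgroup G} {φ : G → L7}
  (h : EA x σ y v V H Q R φ)
include h

theorem y_ne : y * v ≠ v * y := fun e => h.v1 (h.hy v h.hvQ e)

theorem y_not : y0 ∉ h.toPH.img (C1 v) := fun e => by
  obtain ⟨a, a1, a2, a3⟩ := h.toPH.mem_img.1 e
  obtain ⟨q, hq, e⟩ := h.toPH.exists_of_eq a2 h.yH (a3.trans h.py.symm)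
  exact h.y_ne (mem_C1.1 (e ▸ mul_mem a1 (h.QM hq)))

variable (ha : a0 ∈ h.toPH.img (C1 v))
include ha

theorem small [IsSimpleGroup G] (hR : R ≤ h.E) : False := by
  have := Fact.mk Nat.prime_three
  have MH : C1 v ≤ H := fun m hm => by
    obtain ⟨r, hr, s, hs, -, -, rfl⟩ := h.dec hm
    exact mul_mem (h.EH (hR hr)) hs
  have ME : C1 v ≤ normalizer (h.E : Set G) := fun m hm =>
    mem_normalizer_fintype fun e he => hR (h.hs.norm m hm e (h.ER ha he))
  have ix : x0 ∈ h.toPH.img (C1 v) := h.toPH.mem_img.2 ⟨x, h.xM, h.xH, h.px⟩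
  have is : s0 ∈ h.toPH.img (C1 v) := h.toPH.mem_img.2 ⟨σ, h.sM, h.sH, h.ps⟩
  have B : X32.Base h.E v := by
    refine ⟨⟨h.symp ha, fun c hc => h.cent_E hc (h.EM ha), ME, fun e => h.not_le (h.QE.trans e)⟩,
      h.card_E, ?_, fun t h1 h2 h3 q hq h4 => ?_, fun w h1 h2 h3 => ?_⟩
    · rw [h.toPH.card_eq MH, t_card ix is ha h.y_not, inf_eq_right.2 h.QM, h.hc]
    · obtain ⟨k, hk, e⟩ := h.exists_conj h.xM (mem_C1.2 h1) (orderOf_eq_prime h2 h3)
      have h5 := (mem_normalizer_iff.1 (ME hk) q).1 hq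
      have h6 := conj_comm k h4
      refine (mem_normalizer_iff.1 (h.normZ hk) q).2
        (h.VH (h.mem_of_two h.two_E h5 ?_) (h.EH h5))
      rcases e with e | e <;> rw [e] at h6
      exacts [h6, (Commute.inv_left_iff (a := x)).1 h6]
    · have wM := mem_C1.2 h1
      have wH := MH wM
      have h4 := mul_mem (mul_mem h.xM wM) (inv_mem h.xM)
      have wi := inv_eq_of_mul_eq_one_right h2
      rcases t_max ix is ha h.y_not (h.toPH.mem_img.2 ⟨w, wM, wH, rfl⟩) with e | e | e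
      · exact absurd (h.mem_E.2 ⟨wH, e⟩) h3
      · exact absurd (e.trans (orderOf_dvd_of_pow_eq_one (n := 2) (by
          rw [pow_two, ← h.mul wH wH, h2, h.toPH.one]))) (by decide)
      rw [← h.px, ← h.toPH.conj h.xH wH, ← h.mul wH (MH h4)] at e
      have h5 := mul_mem wM h4
      have h6 := orderOf_pow_orderOf_div (orderOf_pos _).ne' (e.trans ((orderOf_map_dvd h.toPH.hom
        ⟨_, MH h5⟩).trans (orderOf_coe _).symm.dvd))
      refine ⟨_, mem_C1.1 (pow_mem h5 _), h6 ▸ pow_orderOf_eq_one _, fun e => by simp [e] at h6, ?_⟩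
      have : w * (w * (x * w * x⁻¹)) * w⁻¹ = (w * (x * w * x⁻¹))⁻¹ := by
        rw [← mul_assoc w w, h2, one_mul, mul_inv_rev, conj_inv, wi]
      rw [mul_eq_one_iff_eq_inv, ← inv_pow, ← this, conj_pow, wi]
  rcases B.main (isConj_conj y v) (h.QE (h.toPH.conj_mem h.yH h.hvQ))
    (fun e => h.y_ne (mul_inv_eq_iff_eq_mul.1 e)) with ⟨N, hN, -, -, e, -⟩ | ⟨⟨e⟩⟩ | ⟨⟨e⟩⟩ | ⟨-, e⟩
  · rcases hN.eq_bot_or_eq_top with rfl | rfl
    · simp at e
    · have := orderOf_dvd_natCard x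
      rw [h.ord, ← card_top, e] at this
      omega
  · exact h.n5 (by rw [Nat.card_congr e.toEquiv, nat_card_alternatingGroup, Nat.card_fin]; decide)
  · exact h.n5 (by rw [Nat.card_congr e.toEquiv, nat_card_alternatingGroup, Nat.card_fin]; decide)
  · exact h.n5 (by rw [e]; decide)

theorem big (hn : ¬ R ⊓ normalizer (h.E : Set G) ≤ h.E) : False := by
  have := Fact.mk Nat.prime_two
  set N := R ⊓ normalizer (h.E : Set G) with hN
  have h2 : IsPGroup 2 N := h.hs.two.to_inf_left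
  have hM : N ≤ C1 v := inf_le_left.trans h.hs.le
  have hx : x ∈ normalizer (N : Set G) := inf_normalizer_le_normalizer_inf
    ⟨mem_normalizer_fintype (h.hs.norm x h.xM), le_normalizer h.xE⟩
  have hEN : h.E ≤ N := le_inf (h.ER ha) le_normalizer
  have k1 := fun u f => h.mem_of_fix ha h2 hM hx hEN inf_le_right (u := u) (f := f)
  have k2 := fun n m => h.mul_mem_E ha h2 hM hx hEN inf_le_right (n := n) (m := m)
  have RN : R ≤ N := by
    by_contra e
    obtain ⟨n, ⟨n1, n2⟩, n3⟩ := SetLike.exists_of_lt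
      (PG.lt_inf_normalizer h.hs.two (lt_of_le_not_ge inf_le_left e))
    refine n3 ⟨n1, mem_normalizer_fintype fun e he => by_contra fun hu => ?_⟩
    have c : ∀ q ∈ Q, q ∉ zpowers v → n⁻¹ * q * n ∉ h.E := fun q hq a b =>
      hu (k1 _ q ((mem_normalizer_iff.1 n2 e).1 (hEN he)) hq a (by
        convert (mem_normalizer_iff.1 (h.normZ (h.hs.le n1)) _).1 ((h.symp ha).comm_mem he b) using 1
        group))
    obtain ⟨q, hq, a⟩ := SetLike.not_le_iff_exists.1 h.not_le
    have h3 : (zpowers v).relIndex Q = 2 := relIndex_eq_two_iff_exists_notMem_and.2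
      ⟨q, hq, a, fun p hp => or_iff_not_imp_right.2 fun b => by_contra fun d => c _ (mul_mem hp hq) d (by
        convert k2 _ _ ((mem_normalizer_iff''.1 n2 p).1 (hEN (h.QE hp)))
          ((mem_normalizer_iff''.1 n2 q).1 (hEN (h.QE hq))) (c p hp b) (c q hq a) using 1
        group)⟩
    have h4 := ((zpowers v).subgroupOf Q).card_mul_index
    rw [card_subgroupOf_of_le (zpowers_le.2 h.hvQ), h.cardZ, h.hc, ← relIndex, h3] at h4
    omega
  have hT : ∀ a ∈ C1 v, ∀ b ∈ C1 v, a ∉ H → b ∉ H → a * b ∈ H := fun a a1 b b1 a2 b2 => by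
    obtain ⟨r, hr, s, s1, s2, -, rfl⟩ := h.dec a1
    obtain ⟨r', hr', s', s1', -, -, rfl⟩ := h.dec b1
    convert mul_mem (mul_mem (h.EH (k2 _ _ (RN hr) (RN (h.hs.norm s s2 r' hr'))
      (fun e => a2 (mul_mem (h.EH e) s1)) fun e => b2 (mul_mem ((mul_mem_cancel_left s1).1
        ((mul_mem_cancel_right (inv_mem s1)).1 (h.EH e))) s1'))) s1) s1' using 1
    group
  have odd := odd_index h.two_E (h.EM ha) fun u h1 h3 =>
    (h.memZ.1 (h.cent_E h3 (h.EM ha))).resolve_left fun e => h.v1 (isConj_one_left.1 (e ▸ h1))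
  have k3 : ∀ w ∈ V, w ∉ H → IsConj w σ ∨ IsConj w (σ * v) := fun w hw h1 => by
    obtain ⟨g, -, hg, -⟩ := thompson h.perf odd hT (ord_two (h.sq w hw) fun e => h1 (e ▸ one_mem _))
      IsPGroup.of_bot fun r hr => by rw [mem_bot.1 hr, one_mul, mul_one]
    exact (h.outer hg (conj_sq (h.sq w hw) g) fun e => h1 (h.fusion h.hv hw ((h.conj_v e fun e =>
      h1 (conj_eq_one_iff.1 e ▸ one_mem _)).trans (isConj_conj g w).symm) ▸ h.le h.hvQ)).imp
      (isConj_conj g w).trans (isConj_conj g w).trans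
  obtain ⟨n, n1, n2⟩ := SetLike.not_le_iff_exists.1 hn
  obtain ⟨e, he, hw⟩ := Coprime.exists_mul_mem_centralizer' (zpowers_le.2 h.xE)
    (by rw [Nat.card_zpowers, h.ord, h.card_E]; decide) (.inl (Coprime.isSolvable_zpowers x))
    (g := n) fun a a1 => k2 _ _ ((mem_normalizer_iff.1 (zpowers_le.2 hx a1) n).1 n1) (inv_mem n1)
      (fun e => n2 ((mem_normalizer_iff.1 (zpowers_le.2 h.xE a1) n).2 e)) (mt inv_mem_iff.1 n2)
  have wN := mul_mem (hEN he) n1
  have wV := h.mem_of_two h2 wN (hw x (mem_zpowers x))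
  have wH : e * n ∉ H := fun d =>
    n2 ((mul_mem_cancel_left he).1 (zpowers_le.2 (h.QE h.hvQ) (h.VH wV d)))
  generalize e * n = w at wN wV wH
  have vH := h.le h.hvQ
  have wv : w * v ∉ H := fun d => wH ((mul_mem_cancel_right vH).1 d)
  obtain ⟨q, hq, a⟩ : ∃ q ∈ Q, w * q * w⁻¹ ∉ Q := by
    by_contra! e
    exact wH (h.qnorm w e)
  have c := (h.conj_v hq fun e => a (by simp [e])).trans (isConj_conj w q)
  have k4 : ∀ {a b c : G}, a ∈ V → b ∈ V → IsConj a c → IsConj b c → a = b := fun a b c d =>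
    h.fusion a b (c.trans d.symm)
  have wvV := mul_mem wV h.hv
  rcases h.outer (h.EH ((mem_normalizer_iff.1 wN.2 q).1 (h.QE hq))) (conj_sq (h.qsq q hq) w) a with
    e1 | e1 <;> rcases k3 w wV wH with e2 | e2 <;> rcases k3 _ wvV wv with e3 | e3 <;> first
    | exact wH (k4 h.hv wV (c.trans e1) e2 ▸ vH)
    | exact wv (k4 h.hv wvV (c.trans e1) e3 ▸ vH)
    | exact h.v1 (left_eq_mul.1 (k4 wV wvV e2 e3))

theorem false [IsSimpleGroup G] : False := by
  have := Fact.mk Nat.prime_two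
  refine h.big ha fun e => h.small ha (by_contra fun d => ?_)
  exact (PG.lt_inf_normalizer h.hs.two (lt_of_le_not_ge (h.ER ha) d)).2 e

end EA

theorem LH.caseA {G : Type*} [Group G] [Finite G] [IsSimpleGroup G] {x σ y v : G}
    {V H Q R : Subgroup G} {φ : G → L7} (h : LH x σ y V H Q φ) (hc : Nat.card Q = 8)
    (hy : ∀ q ∈ Q, y * q = q * y → q = 1) (hv : v ∈ V) (hvQ : v ∈ Q) (v1 : v ≠ 1)
    (hs : S6 x V (C1 v) R) : False := by
  have e : EA x σ y v V H Q R φ := ⟨h, hc, hy, hv, hvQ, v1, hs⟩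
  rcases e.ab with a | a
  · exact e.false a
  · obtain ⟨b, b1, b2, b3⟩ := e.toPH.mem_img.1 a
    exact e.al.false (e.al.toPH.mem_img.2 ⟨b, b1, b2, by rw [b3, al_b0]⟩)

end Cfsg.Lib.Apw
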