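import Cfsg.Agent.Apw.Defs
import Cfsg.Agent.S0243
import Cfsg.Agent.S0280
import Cfsg.Agent.Class.PGL2Sub
import Cfsg.Agent.Class.FieldIso
import Cfsg.Agent.CITCor.EPPO
import Cfsg.Agent.Bender.Groups
import Cfsg.Agent.Spor.M24Sub
import Cfsg.Agent.Inst.NgMain

/-! The simple groups of the class all of whose 2-local subgroups are solvable. -/

set_option autoImplicit false
set_option linter.unusedSectionVars false

namespace Cfsg.Lib.Apw

open Subgroup Cfsg.Lib.Solv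
open scoped MatrixGroups

variable {G : Type*} [Group G] [Finite G] {x : G} {V : Subgroup G}

theorem Cl.pow_six (h : Cl x V) {c : G} (hc : x * c = c * x) : c ^ 6 = 1 := by
  have h3 : x ^ 6 = 1 := orderOf_dvd_iff_pow_eq_one.1 (by rw [h.ord]; norm_num)
  obtain ⟨v, hv, e⟩ := h.cent c hc
  have h2 : v ^ 6 = 1 := by
    rw [show 6 = 2 * 3 from rfl, pow_mul, pow_two, h.sq v hv, one_pow]
  have h4 : Commute x v := h.comm v hv
  rcases e with rfl | rfl | rfl
  · exact h2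
  · rw [h4.mul_pow, h3, h2, one_mul]
  · rw [h4.inv_left.mul_pow, inv_pow, h3, h2, inv_one, one_mul]

/-- Elements of order divisible by three have order three or six. -/
theorem Cl.ord_dvd (h : Cl x V) {y : G} (h3 : 3 ∣ orderOf y) : orderOf y ∣ 6 := by
  obtain ⟨n, hn⟩ := h3
  have h0 : n ≠ 0 := fun e => (orderOf_pos y).ne' (by rw [hn, e])
  have h1 : orderOf (y ^ n) = 3 := by
    rw [orderOf_pow' _ h0, hn, Nat.gcd_mul_left_left, Nat.mul_div_cancel _ (Nat.pos_of_ne_zero h0)]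
  obtain ⟨k, hk⟩ := h.exists_conj' h1
  have h2 : Commute (k * y ^ n * k⁻¹) (k * y * k⁻¹) := conj_comm k ((Commute.refl y).pow_left n)
  rw [← ord_conj k y, orderOf_dvd_iff_pow_eq_one]
  refine h.pow_six ?_
  rcases hk with e | e <;> rw [e] at h2
  exacts [h2, by simpa using h2.inv_left.eq]

theorem Cl.psl2 (h : Cl x V) {F : Type*} [Field F] [Fintype F] (h4 : 4 ≤ Fintype.card F)
    (e : G ≃* PSL(2, F)) : Fintype.card F = 7 ∨ Fintype.card F = 13 := by
  obtain ⟨⟨z, hz⟩, y, hy⟩ := CITCor.exists_orderOf_psl2 F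
  have h1 := h.ord_dvd (y := e.symm y)
  have h1' := h.ord_dvd (y := e.symm z)
  rw [e.symm.orderOf_eq, hy] at h1
  rw [e.symm.orderOf_eq, hz] at h1'
  have h2 := Class.gcd_mul_card_PSL2 (F := F)
  rw [← Nat.card_congr e.toEquiv, Nat.card_eq_fintype_card (α := F)] at h2
  have h3 : Nat.gcd 2 (Fintype.card F - 1) ∣ 2 := Nat.gcd_dvd_left _ _
  have h6 : Nat.gcd 2 (Fintype.card F - 1) ∣ Fintype.card F - 1 := Nat.gcd_dvd_right _ _
  have h5 := h.n5
  have h9 := h.n9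
  have h7 : ¬ 3 ∣ Fintype.card F := fun h7 => by
    obtain ⟨p, _, n, hp, hn⟩ := FiniteField.card' F
    generalize (n : ℕ) = n at hn
    rw [hn] at h7 h4
    obtain rfl := (Nat.prime_dvd_prime_iff_eq Nat.prime_three hp).1
      (Nat.prime_three.dvd_of_dvd_pow h7)
    have h8 : 9 ∣ Fintype.card F := by
      rw [hn]
      rcases n with _ | _ | n
      · omega
      · omega
      · exact Dvd.intro_left (3 ^ n) (by ring)
    have h10 := (h2 ▸ ((h8.mul_right _).mul_right _) : 9 ∣ Nat.gcd 2 (Fintype.card F - 1) * Nat.card G)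
    rcases (Nat.dvd_prime Nat.prime_two).1 h3 with e | e <;> rw [e] at h10 <;> omega
  have h8 : Fintype.card F ≤ 13 := by
    have k1 := fun a => Nat.le_of_dvd (by norm_num) (h1 a)
    have k2 := fun a => Nat.le_of_dvd (by norm_num) (h1' a)
    clear h1 h1' hy hz h2
    obtain ⟨s, r, hr, hs⟩ : ∃ s r, r < 6 ∧ Fintype.card F = 6 * s + r :=
      ⟨_, _, Nat.mod_lt _ (by norm_num), (Nat.div_add_mod _ 6).symm⟩
    rcases (Nat.dvd_prime Nat.prime_two).1 h3 with e | e <;> rw [e] at k1 k2 h6 <;>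
      interval_cases r <;> omega
  generalize Fintype.card F = q at *
  interval_cases q <;> norm_num at h2 <;> omega

theorem Cl.not_psu3 (h : Cl x V) {F : Type*} [Field F] [Fintype F] {q : ℕ}
    (hF : Fintype.card F = q ^ 2) (hq : q % 3 = 1 → q % 5 = 1 ∨ q % 5 = 4)
    (e : G ≃* PSU 3 F q) : False := by
  have h1 := Cfsg.Agent.S0280.result hF 3 (by norm_num)
  rw [← Nat.card_congr e.toEquiv] at h1
  simp only [Finset.prod_range_succ, Finset.prod_range_zero] at h1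
  norm_num at h1
  have h2 : Nat.gcd 3 (q + 1) * Nat.card G = q ^ 3 * ((q ^ 2 - 1) * (q ^ 3 + 1)) := by
    refine Nat.eq_of_mul_eq_mul_left (show 0 < q + 1 by omega) ?_
    rw [mul_left_comm, h1]; ring
  have h5 := h.n5
  have h9 := h.n9
  have h3 : Nat.gcd 3 (q + 1) ∣ q + 1 := Nat.gcd_dvd_right _ _
  rcases (Nat.dvd_prime Nat.prime_three).1 (Nat.gcd_dvd_left 3 (q + 1)) with e | e <;>
    rw [e] at h2 h3
  · rw [one_mul] at h2
    rw [h2] at h5 h9
    by_cases h4 : q % 3 = 1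
    · refine h5 ((Dvd.dvd.mul_right ?_ _).mul_left _)
      have := Nat.pow_mod q 2 5
      rcases hq h4 with e | e <;> rw [e] at this <;> omega
    · have h6 : ¬ 3 ∣ q + 1 := fun h6 => by
        have := Nat.dvd_gcd (dvd_refl 3) h6
        omega
      obtain ⟨s, rfl⟩ : 3 ∣ q := by omega
      exact h9 (Dvd.dvd.mul_right (Dvd.intro (3 * s ^ 3) (by ring)) _)
  · obtain ⟨s, rfl⟩ : ∃ s, q = 3 * s + 2 := ⟨q / 3, by omega⟩
    have h6 : (3 * s + 2) ^ 2 - 1 = 3 * (3 * s ^ 2 + 4 * s + 1) :=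
      Nat.sub_eq_of_eq_add (by ring)
    refine h9 ⟨(3 * s + 2) ^ 3 * ((3 * s ^ 2 + 4 * s + 1) * (3 * s ^ 3 + 6 * s ^ 2 + 4 * s + 1)),
      Nat.eq_of_mul_eq_mul_left (show 0 < 3 by omega) ?_⟩
    rw [h2, h6]; ring

theorem Cl.of_psl2 (h : Cl x V) {F : Type*} [Field F] [Fintype F] (h4 : 4 ≤ Fintype.card F)
    (e : G ≃* PSL(2, F)) : Nonempty (G ≃* L7) ∨ Nonempty (G ≃* PSL(2, ZMod 13)) := by
  refine (h.psl2 h4 e).imp (fun h7 => ?_) fun h13 => ?_
  · have := Fact.mk (show Nat.Prime 7 by norm_num)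
    obtain ⟨f⟩ := Class.nonempty_ringEquiv_zmod (by norm_num) h7
    obtain ⟨g⟩ := Known.G168.nonempty_equiv_psl
    exact ⟨(e.trans (Class.pslEquiv _ f)).trans g.symm⟩
  · obtain ⟨f⟩ := Class.nonempty_ringEquiv_zmod (by norm_num) h13
    exact ⟨e.trans (Class.pslEquiv _ f)⟩

theorem Cl.not_isSuzuki (h : Cl x V) : ¬ IsSuzuki G := by
  rintro ⟨-, m, -, e⟩
  refine h.n5 (e ▸ Dvd.dvd.mul_right (Dvd.dvd.mul_left ?_ _) _)
  have : (2 ^ (2 * m + 1)) ^ 2 % 5 = 4 := by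
    rw [← pow_mul, show (2 * m + 1) * 2 = 4 * m + 2 by ring, pow_add, pow_mul, Nat.mul_mod,
      Nat.pow_mod]
    norm_num
  omega

theorem Cl.not_psu3_even (h : Cl x V) {F : Type*} [Field F] [Fintype F] {q : ℕ}
    (hF : Fintype.card F = q ^ 2) (hq : Even q) (e : G ≃* PSU 3 F q) : False := by
  refine h.not_psu3 hF ?_ e
  obtain ⟨p, _, n, hp, hn⟩ := FiniteField.card' F
  generalize (n : ℕ) = n at hn
  rw [hF] at hn
  obtain ⟨k, -, rfl⟩ := (Nat.dvd_prime_pow hp).1 (hn ▸ Dvd.intro q (pow_two q).symm : q ∣ p ^ n)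
  obtain rfl := (Nat.prime_dvd_prime_iff_eq Nat.prime_two hp).1
    (Nat.prime_two.dvd_of_dvd_pow hq.two_dvd)
  have h1 : ∀ k, 2 ^ k % 15 = 1 ∨ 2 ^ k % 15 = 2 ∨ 2 ^ k % 15 = 4 ∨ 2 ^ k % 15 = 8 := fun k => by
    induction k with
    | zero => norm_num
    | succ k ih => rw [pow_succ]; omega
  have := h1 k
  omega

theorem of_locals {G : Type*} [Group G] [Finite G] [IsSimpleGroup G]
    (hna : ¬ IsMulCommutative G) {x : G} {V : Subgroup G} (h : Cl x V)
    (hl : ∀ N : Subgroup G, IsTwoLocal N → Group.IsSolvable N) :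
    Nonempty (G ≃* L7) ∨
      Nonempty (G ≃* Matrix.ProjectiveSpecialLinearGroup (Fin 2) (ZMod 13)) := by
  have h5 := h.n5
  have h9 := h.n9
  rcases Cfsg.Agent.Gate.NgMain.out hna hl with ⟨F, _, _, h4, ⟨e⟩⟩ | h1 |
    ⟨F, _, _, q, hF, h2, -, ⟨e⟩⟩ | ⟨⟨e⟩⟩ | ⟨F, _, _, hF, ⟨e⟩⟩ | ⟨⟨e⟩⟩ | ⟨⟨e⟩⟩ | ⟨h1, -⟩
  · exact h.of_psl2 h4 e
  · exact absurd (Bender.isSuzuki_of_isoSuzuki h1) h.not_isSuzuki
  · exact (h.not_psu3_even hF h2 e).elim
  · have h1 := Cfsg.Agent.S0243.result (F := ZMod 3) (ZMod.card 3) 3 (by norm_num)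
    rw [← Nat.card_congr e.toEquiv] at h1
    simp only [Fin.prod_univ_three] at h1
    norm_num at h1
    omega
  · exact (h.not_psu3 (q := 3) hF (by norm_num) e).elim
  · have h1 := Nat.card_congr e.toEquiv
    rw [nat_card_alternatingGroup] at h1
    simp [Nat.factorial] at h1
    omega
  · have h1 := (Nat.card_congr e.toEquiv).trans Spor.MP.card_M11
    omega
  · omega

end Cfsg.Lib.Apw
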